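import Mathlib
import Cfsg.Agent.H236.TL.Split

/-!
# A maximal invariant subspace with quotient `F[X]/(p)`, in block form (for helper324, Theorem L of S2464)
-/

set_option autoImplicit false

namespace Cfsg.Agent.H642.TL

open Polynomial Module Matrix

variable {F : Type*} [Field F]

section Space

variable {V : Type*} [AddCommGroup V] [Module F V]

theorem aeval_comm (a : Module.End F V) (f g : F[X]) (v : V) :
    aeval a f (aeval a g v) = aeval a g (aeval a f v) := by
  rw [← Module.End.mul_apply, ← Module.End.mul_apply, ← map_mul, ← map_mul, mul_comm]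

/-- Invariant subspaces are invariant under polynomials. -/
theorem aeval_mem (a : Module.End F V) (E : Submodule F V) (hE : ∀ x ∈ E, a x ∈ E) (f : F[X]) {x : V} (hx : x ∈ E) :
    aeval a f x ∈ E := by
  have hpow : ∀ n : ℕ, (a ^ n) x ∈ E := by
    intro n
    induction n with
    | zero => simpa using hx
    | succ n ih => rw [pow_succ', Module.End.mul_apply]; exact hE _ ih
  induction f using Polynomial.induction_on' with
  | add f g h1 h2 => rw [map_add, LinearMap.add_apply]; exact E.add_mem h1 h2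
  | monomial n c =>
    rw [aeval_monomial, Module.End.mul_apply, Module.algebraMap_end_apply]
    exact E.smul_mem _ (hpow n)

/-- The evaluation map into a quotient. -/
noncomputable def ev (a : Module.End F V) (E : Submodule F V) (v : V) : F[X] →ₗ[F] V ⧸ E :=
  E.mkQ ∘ₗ (LinearMap.applyₗ v) ∘ₗ (aeval a).toLinearMap

theorem ev_apply (a : Module.End F V) (E : Submodule F V) (v : V) (f : F[X]) :
    ev a E v f = E.mkQ (aeval a f v) := rfl

theorem ev_eq_zero (a : Module.End F V) (E : Submodule F V) (hE : ∀ x ∈ E, a x ∈ E) {v : V} (hv : v ∉ E) {p : F[X]}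
    (hp : Irreducible p) (hpE : aeval a p v ∈ E) {f : F[X]} (hf : ev a E v f = 0) : p ∣ f := by
  by_contra hnd
  have hco : IsCoprime p f := hp.coprime_iff_not_dvd.2 hnd
  obtain ⟨x, y, hxy⟩ := hco
  apply hv
  have h1 : aeval a f v ∈ E := by
    rwa [ev_apply, Submodule.mkQ_apply, Submodule.Quotient.mk_eq_zero] at hf
  have h2 : aeval a (x * p + y * f) v = v := by rw [hxy, map_one, Module.End.one_apply]
  rw [← h2, map_add, map_mul, map_mul, LinearMap.add_apply, Module.End.mul_apply, Module.End.mul_apply]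
  exact E.add_mem (aeval_mem a E hE x hpE) (aeval_mem a E hE y h1)

/-- **A maximal invariant subspace containing `U`.** -/
theorem exists_max [FiniteDimensional F V] (a : Module.End F V) {p : F[X]} (hp : Irreducible p) (hp1 : p.Monic)
    (U : Submodule F V) (hUinv : ∀ x ∈ U, a x ∈ U) (hU : U ≠ ⊤) (hpU : ∀ x, aeval a p x ∈ U) :
    ∃ E : Submodule F V, U ≤ E ∧ (∀ x ∈ E, a x ∈ E) ∧ finrank F (V ⧸ E) = p.natDegree := by
  obtain ⟨E, ⟨hUE, hE, hEt⟩, hmax⟩ := (wellFounded_gt (α := Submodule F V)).has_min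
    {E | U ≤ E ∧ (∀ x ∈ E, a x ∈ E) ∧ E ≠ ⊤} ⟨U, le_rfl, hUinv, hU⟩
  refine ⟨E, hUE, hE, ?_⟩
  obtain ⟨v, hv⟩ : ∃ v, v ∉ E := by
    by_contra h
    push Not at h
    exact hEt (eq_top_iff.2 fun x _ => h x)
  have hsurj : LinearMap.range (ev a E v) = ⊤ := by
    by_contra hne
    apply hmax ((LinearMap.range (ev a E v)).comap E.mkQ)
    · refine ⟨?_, ?_, ?_⟩
      · intro x hx
        rw [Submodule.mem_comap, Submodule.mkQ_apply, (Submodule.Quotient.mk_eq_zero E).2 (hUE hx)]
        exact zero_mem _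
      · rintro x ⟨f, hf⟩
        refine ⟨X * f, ?_⟩
        rw [ev_apply, map_mul, Module.End.mul_apply, aeval_X]
        rw [ev_apply, Submodule.mkQ_apply, Submodule.mkQ_apply, Submodule.Quotient.eq] at hf
        rw [Submodule.mkQ_apply, Submodule.mkQ_apply, Submodule.Quotient.eq, ← map_sub]
        exact hE _ hf
      · intro h
        apply hne
        rw [eq_top_iff]
        rintro y -
        obtain ⟨x, rfl⟩ := E.mkQ_surjective y
        have : x ∈ (LinearMap.range (ev a E v)).comap E.mkQ := h ▸ Submodule.mem_top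
        exact this
    · rw [lt_iff_le_and_ne]
      refine ⟨?_, ?_⟩
      · intro x hx
        rw [Submodule.mem_comap, Submodule.mkQ_apply, (Submodule.Quotient.mk_eq_zero E).2 hx]
        exact zero_mem _
      · intro h
        apply hv
        rw [h]
        exact ⟨1, by rw [ev_apply, map_one, Module.End.one_apply]⟩
  have hdeg : ∀ f : F[X], f ∈ degreeLT F p.natDegree → ev a E v f = 0 → f = 0 := by
    intro f hf h0
    have h1 := ev_eq_zero a E hE hv hp (hUE (hpU v)) h0
    by_contra hf0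
    rw [mem_degreeLT] at hf
    have h2 := Polynomial.degree_le_of_dvd h1 hf0
    rw [Polynomial.degree_eq_natDegree hp.ne_zero] at h2
    exact absurd hf (not_lt.2 h2)
  have hbij : Function.Bijective ((ev a E v).domRestrict (degreeLT F p.natDegree)) := by
    constructor
    · rw [injective_iff_map_eq_zero]
      rintro ⟨f, hf⟩ h
      exact Subtype.ext (hdeg f hf h)
    · intro y
      obtain ⟨f, rfl⟩ : y ∈ LinearMap.range (ev a E v) := hsurj ▸ Submodule.mem_top
      refine ⟨⟨f %ₘ p, ?_⟩, ?_⟩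
      · rw [mem_degreeLT, ← Polynomial.degree_eq_natDegree hp.ne_zero]
        exact Polynomial.degree_modByMonic_lt _ hp1
      · change ev a E v (f %ₘ p) = ev a E v f
        rw [Polynomial.modByMonic_eq_sub_mul_div f p, map_sub, sub_eq_self, ev_apply, Submodule.mkQ_apply,
          Submodule.Quotient.mk_eq_zero, mul_comm, map_mul, Module.End.mul_apply]
        exact aeval_mem a E hE _ (hUE (hpU v))
  rw [← (LinearEquiv.ofBijective _ hbij).finrank_eq, (degreeLTEquiv F p.natDegree).finrank_eq,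
    Module.finrank_fin_fun]

end Space

/-- Polynomials of block triangular matrices. -/
theorem aeval_fromBlocks {m l : Type*} [Fintype m] [DecidableEq m] [Fintype l] [DecidableEq l] (A : Matrix m m F)
    (B : Matrix m l F) (D : Matrix l l F) (f : F[X]) :
    ∃ Y : Matrix m l F, aeval (fromBlocks A B 0 D) f = fromBlocks (aeval A f) Y 0 (aeval D f) := by
  induction f using Polynomial.induction_on' with
  | add f g h1 h2 =>
    obtain ⟨Y1, h1⟩ := h1
    obtain ⟨Y2, h2⟩ := h2
    exact ⟨Y1 + Y2, by rw [map_add, map_add, map_add, h1, h2, fromBlocks_add, add_zero]⟩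
  | monomial n c =>
    have h : ∀ n : ℕ, ∃ Y : Matrix m l F, (fromBlocks A B 0 D) ^ n = fromBlocks (A ^ n) Y 0 (D ^ n) := by
      intro n
      induction n with
      | zero => exact ⟨0, by simp [fromBlocks_one]⟩
      | succ n ih =>
        obtain ⟨Y, hY⟩ := ih
        exact ⟨A ^ n * B + Y * D, by rw [pow_succ, hY, fromBlocks_multiply]; simp [pow_succ]⟩
    obtain ⟨Y, hY⟩ := h n
    refine ⟨c • Y, ?_⟩
    rw [aeval_monomial, aeval_monomial, aeval_monomial, hY, ← Algebra.smul_def, ← Algebra.smul_def,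
      ← Algebra.smul_def, fromBlocks_smul, smul_zero]

/-- An irreducible polynomial of degree `d` killing a `d × d` matrix is its characteristic polynomial. -/
theorem charpoly_eq_of_aeval {d : ℕ} {p : F[X]} (hp : Irreducible p) (hp1 : p.Monic) (hd : p.natDegree = d)
    (D : Matrix (Fin d) (Fin d) F) (h : aeval D p = 0) : D.charpoly = p := by
  have hd0 : 0 < d := hd ▸ hp.natDegree_pos
  have : Nonempty (Fin d) := ⟨⟨0, hd0⟩⟩
  have h1 : p = minpoly F D := minpoly.eq_of_irreducible_of_monic hp h hp1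
  have h2 : p ∣ D.charpoly := by rw [h1]; exact Matrix.minpoly_dvd_charpoly D
  refine (Polynomial.eq_of_monic_of_dvd_of_natDegree_le hp1 D.charpoly_monic h2 ?_)
  rw [Matrix.charpoly_natDegree_eq_dim, Fintype.card_fin, hd]

/-- The block form from an invariant subspace. -/
theorem block_of {n : ℕ} (A : Matrix (Fin n) (Fin n) F) {p : F[X]} (hp : Irreducible p) (hp1 : p.Monic)
    (E : Submodule F (Fin n → F)) (hE : ∀ x ∈ E, toLin' A x ∈ E) (hpE : ∀ x, toLin' (aeval A p) x ∈ E)
    (hdim : finrank F ((Fin n → F) ⧸ E) = p.natDegree) :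
    ∃ (s : ℕ) (A1 : Matrix (Fin s) (Fin s) F) (A2 : Matrix (Fin p.natDegree) (Fin p.natDegree) F)
      (Ps : Matrix (Fin s) (Fin p.natDegree) F) (P : Matrix (Fin n) (Fin s ⊕ Fin p.natDegree) F)
      (P' : Matrix (Fin s ⊕ Fin p.natDegree) (Fin n) F), s + p.natDegree = n ∧
      P * P' = 1 ∧ P' * P = 1 ∧ P' * A * P = fromBlocks A1 Ps 0 A2 ∧ A2.charpoly = p ∧
      ((∃ x ∈ E, toLin' (aeval A p) x ≠ 0) → aeval A1 p ≠ 0) := by
  set bE : Basis (Fin (finrank F E)) F E := finBasis F E with hbE
  set bQ : Basis (Fin p.natDegree) F ((Fin n → F) ⧸ E) := finBasisOfFinrankEq F _ hdim with hbQ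
  set b := bE.sumQuot bQ with hb
  have hM : ∀ C : Matrix (Fin n) (Fin n) F, b.toMatrix (Pi.basisFun F (Fin n)) * C *
      (Pi.basisFun F (Fin n)).toMatrix b = LinearMap.toMatrix b b (toLin' C) := by
    intro C
    rw [← basis_toMatrix_mul_linearMap_toMatrix_mul_basis_toMatrix b (Pi.basisFun F (Fin n)) b
      (Pi.basisFun F (Fin n)) (toLin' C)]
    congr 2
    exact (LinearMap.toMatrix'_toLin' C).symm
  have h21 : ∀ T : Module.End F (Fin n → F), (∀ x ∈ E, T x ∈ E) → (LinearMap.toMatrix b b T).toBlocks₂₁ = 0 := by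
    intro T hT
    ext i j
    rw [toBlocks₂₁, of_apply, LinearMap.toMatrix_apply, hb, Module.Basis.sumQuot_repr_inr,
      Module.Basis.sumQuot_inl, Submodule.mkQ_apply, (Submodule.Quotient.mk_eq_zero E).2 (hT _ (bE j).2)]
    simp
  have hdimE : finrank F E + p.natDegree = n := by
    have h1 := Submodule.finrank_quotient_add_finrank E
    rw [hdim, Module.finrank_fin_fun] at h1
    omega
  obtain ⟨M, hMdef⟩ : ∃ M, M = LinearMap.toMatrix b b (toLin' A) := ⟨_, rfl⟩
  have hMb : M = fromBlocks M.toBlocks₁₁ M.toBlocks₁₂ 0 M.toBlocks₂₂ := by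
    have h := fromBlocks_toBlocks M
    rw [show M.toBlocks₂₁ = 0 by rw [hMdef]; exact h21 _ hE] at h
    exact h.symm
  have haM : aeval M p = LinearMap.toMatrix b b (toLin' (aeval A p)) := by
    have e1 : M = (LinearMap.toMatrixAlgEquiv b).toAlgHom (toLin' A) := hMdef
    have e2 : toLin' A = (Matrix.toLinAlgEquiv' : Matrix (Fin n) (Fin n) F ≃ₐ[F] _).toAlgHom A := rfl
    rw [e1, aeval_algHom_apply, e2, aeval_algHom_apply]
    rfl
  obtain ⟨Y, hY⟩ := aeval_fromBlocks M.toBlocks₁₁ M.toBlocks₁₂ M.toBlocks₂₂ p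
  rw [← hMb] at hY
  refine ⟨finrank F E, M.toBlocks₁₁, M.toBlocks₂₂, M.toBlocks₁₂, (Pi.basisFun F (Fin n)).toMatrix b,
    b.toMatrix (Pi.basisFun F (Fin n)), hdimE, ?_, ?_, ?_, ?_, ?_⟩
  · exact Module.Basis.toMatrix_mul_toMatrix_flip _ _
  · exact Module.Basis.toMatrix_mul_toMatrix_flip _ _
  · rw [hM, ← hMdef]
    exact hMb
  · apply charpoly_eq_of_aeval hp hp1 rfl
    have h22 : (aeval M p).toBlocks₂₂ = 0 := by
      rw [haM]
      ext i j
      rw [toBlocks₂₂, of_apply, LinearMap.toMatrix_apply, hb, Module.Basis.sumQuot_repr_inr, Submodule.mkQ_apply,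
        (Submodule.Quotient.mk_eq_zero E).2 (hpE _)]
      simp
    rwa [hY, toBlocks_fromBlocks₂₂] at h22
  · rintro ⟨x, hx, hx0⟩ h0
    apply hx0
    have h11 : (aeval M p).toBlocks₁₁ = 0 := by rw [hY, toBlocks_fromBlocks₁₁, h0]
    have h1 : ∀ j, toLin' (aeval A p) (bE j : Fin n → F) = 0 := by
      intro j
      have h2 : ∀ i, bE.repr ⟨toLin' (aeval A p) (bE j : Fin n → F), hpE _⟩ i = 0 := by
        intro i
        have h3 : (aeval M p) (Sum.inl i) (Sum.inl j) = 0 := by
          have := congrFun (congrFun h11 i) j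
          exact this
        rw [haM, LinearMap.toMatrix_apply, hb, Module.Basis.sumQuot_inl] at h3
        rw [← h3]
        exact (Module.Basis.sumQuot_repr_inl_of_mem bE bQ _ (hpE _) i).symm
      have h4 : (⟨toLin' (aeval A p) (bE j : Fin n → F), hpE _⟩ : E) = 0 := by
        rw [← bE.repr.map_eq_zero_iff]
        exact Finsupp.ext h2
      exact congrArg Subtype.val h4
    have h5 : (toLin' (aeval A p)).domRestrict E = 0 := by
      apply bE.ext
      intro j
      exact h1 j
    exact LinearMap.congr_fun h5 ⟨x, hx⟩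

/-- **The block form for helper324.** -/
theorem exists_block {n : ℕ} (A : Matrix (Fin n) (Fin n) F) (p : F[X]) (hp : Irreducible p)
    (hp1 : p.Monic) (hk : p.natDegree < finrank F (LinearMap.ker (Matrix.toLin' (aeval A p))))
    (hne : aeval A p ≠ 0) :
    ∃ (s : ℕ) (A1 : Matrix (Fin s) (Fin s) F) (A2 : Matrix (Fin p.natDegree) (Fin p.natDegree) F)
      (Ps : Matrix (Fin s) (Fin p.natDegree) F) (P : Matrix (Fin n) (Fin s ⊕ Fin p.natDegree) F)
      (P' : Matrix (Fin s ⊕ Fin p.natDegree) (Fin n) F), 0 < s ∧ s + p.natDegree = n ∧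
      P * P' = 1 ∧ P' * P = 1 ∧ P' * A * P = fromBlocks A1 Ps 0 A2 ∧ A2.charpoly = p ∧ aeval A1 p ≠ 0 := by
  obtain ⟨a, ha⟩ : ∃ a : Module.End F (Fin n → F), a = Matrix.toLin' A := ⟨_, rfl⟩
  have hap : ∀ f : F[X], Matrix.toLin' (aeval A f) = aeval a f := by
    intro f
    have e2 : a = (Matrix.toLinAlgEquiv' : Matrix (Fin n) (Fin n) F ≃ₐ[F] _).toAlgHom A := ha
    rw [e2, aeval_algHom_apply]
    rfl
  obtain ⟨v, hv⟩ : ∃ v, toLin' (aeval A p) v ≠ 0 := by
    by_contra h
    push Not at h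
    apply hne
    apply Matrix.toLin'.injective
    rw [map_zero]
    exact LinearMap.ext h
  set R := LinearMap.range (aeval a p) with hR
  set C := LinearMap.range ((LinearMap.applyₗ v) ∘ₗ (aeval a).toLinearMap : F[X] →ₗ[F] (Fin n → F)) with hC
  have hRinv : ∀ x ∈ R, a x ∈ R := by
    rintro _ ⟨x, rfl⟩
    refine ⟨a x, ?_⟩
    have := aeval_comm a p X x
    rwa [aeval_X] at this
  have hCinv : ∀ x ∈ C, a x ∈ C := by
    rintro _ ⟨f, rfl⟩
    refine ⟨X * f, ?_⟩
    change aeval a (X * f) v = a (aeval a f v)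
    rw [map_mul, Module.End.mul_apply, aeval_X]
  have hUt : R ⊔ C ≠ ⊤ := by
    intro htop
    have hcop : finrank F ((Fin n → F) ⧸ R) ≤ p.natDegree := by
      have hs : Function.Surjective ((ev a R v).domRestrict (degreeLT F p.natDegree)) := by
        intro y
        obtain ⟨x, rfl⟩ := R.mkQ_surjective y
        have hx : x ∈ R ⊔ C := htop ▸ Submodule.mem_top
        obtain ⟨r, hr, c, hc, rfl⟩ := Submodule.mem_sup.1 hx
        obtain ⟨f, rfl⟩ := hc
        refine ⟨⟨f %ₘ p, ?_⟩, ?_⟩
        · rw [mem_degreeLT, ← Polynomial.degree_eq_natDegree hp.ne_zero]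
          exact Polynomial.degree_modByMonic_lt _ hp1
        · change ev a R v (f %ₘ p) = R.mkQ (r + aeval a f v)
          rw [map_add, Submodule.mkQ_apply R r, (Submodule.Quotient.mk_eq_zero R).2 hr, zero_add, ← ev_apply,
            Polynomial.modByMonic_eq_sub_mul_div f p, map_sub, sub_eq_self, ev_apply, Submodule.mkQ_apply,
            Submodule.Quotient.mk_eq_zero, map_mul, Module.End.mul_apply]
          exact ⟨_, rfl⟩
      have h1 := LinearMap.finrank_le_finrank_of_surjective hs
      rwa [(degreeLTEquiv F p.natDegree).finrank_eq, Module.finrank_fin_fun] at h1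
    have h2 := Submodule.finrank_quotient_add_finrank R
    have h3 := LinearMap.finrank_range_add_finrank_ker (aeval a p)
    rw [hap] at hk
    rw [← hR] at h3
    omega
  obtain ⟨E, hUE, hE, hdim⟩ := exists_max a hp hp1 (R ⊔ C) (by
    intro x hx
    obtain ⟨r, hr, c, hc, rfl⟩ := Submodule.mem_sup.1 hx
    rw [map_add]
    exact Submodule.add_mem_sup (hRinv r hr) (hCinv c hc)) hUt
    (fun x => Submodule.mem_sup_left ⟨x, rfl⟩)
  obtain ⟨s, A1, A2, Ps, P, P', h1, h2, h3, h4, h5, h6⟩ := block_of A hp hp1 E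
    (fun x hx => by rw [← ha]; exact hE x hx)
    (fun x => by rw [hap]; exact hUE (Submodule.mem_sup_left ⟨x, rfl⟩)) hdim
  have h7 := h6 ⟨v, hUE (Submodule.mem_sup_right ⟨1, by
    change aeval a 1 v = v
    rw [map_one, Module.End.one_apply]⟩), hv⟩
  refine ⟨s, A1, A2, Ps, P, P', ?_, h1, h2, h3, h4, h5, h7⟩
  rcases Nat.eq_zero_or_pos s with rfl | h
  · exact absurd (Subsingleton.elim _ _) h7
  · exact h

/-- The variant with `p ∣ charpoly A`, `deg p < n`. -/
theorem exists_block' {n : ℕ} (A : Matrix (Fin n) (Fin n) F) (p : F[X]) (hp : Irreducible p)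
    (hp1 : p.Monic) (hd : p ∣ A.charpoly) (hn : p.natDegree < n) :
    ∃ (s : ℕ) (A1 : Matrix (Fin s) (Fin s) F) (A2 : Matrix (Fin p.natDegree) (Fin p.natDegree) F)
      (Ps : Matrix (Fin s) (Fin p.natDegree) F) (P : Matrix (Fin n) (Fin s ⊕ Fin p.natDegree) F)
      (P' : Matrix (Fin s ⊕ Fin p.natDegree) (Fin n) F), 0 < s ∧ s + p.natDegree = n ∧
      P * P' = 1 ∧ P' * P = 1 ∧ P' * A * P = fromBlocks A1 Ps 0 A2 ∧ A2.charpoly = p := by
  obtain ⟨a, ha⟩ : ∃ a : Module.End F (Fin n → F), a = Matrix.toLin' A := ⟨_, rfl⟩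
  have hap : ∀ f : F[X], Matrix.toLin' (aeval A f) = aeval a f := by
    intro f
    have e2 : a = (Matrix.toLinAlgEquiv' : Matrix (Fin n) (Fin n) F ≃ₐ[F] _).toAlgHom A := ha
    rw [e2, aeval_algHom_apply]
    rfl
  have hdm : p ∣ minpoly F A := by
    by_contra h
    have h1 : IsCoprime (minpoly F A) p := (hp.coprime_iff_not_dvd.2 h).symm
    have h2 := H236.TL.isCoprime_charpoly A (minpoly.aeval F A) h1
    exact hp.not_isUnit (h2.isUnit_of_dvd' hd dvd_rfl)
  have hUt : LinearMap.range (aeval a p) ≠ ⊤ := by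
    intro htop
    have hsurj : Function.Surjective (aeval a p) := LinearMap.range_eq_top.1 htop
    have hinj : Function.Injective (aeval a p) := LinearMap.injective_iff_surjective.2 hsurj
    obtain ⟨m, hm⟩ := hdm
    have hm0 : m ≠ 0 := by
      rintro rfl
      rw [mul_zero] at hm
      exact minpoly.ne_zero (Matrix.isIntegral A) hm
    have h3 : aeval A m = 0 := by
      apply Matrix.toLin'.injective
      rw [map_zero, hap]
      ext1 x
      apply LinearMap.ext
      intro y
      apply hinj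
      have h4 : aeval a (minpoly F A) = 0 := by rw [← hap, minpoly.aeval, map_zero]
      rw [hm, map_mul] at h4
      have := LinearMap.congr_fun h4 ((LinearMap.single F (fun _ => F) x) y)
      simpa using this
    have h5 := natDegree_le_of_dvd (minpoly.dvd F A h3) hm0
    rw [hm, natDegree_mul hp.ne_zero hm0] at h5
    have := hp.natDegree_pos
    omega
  obtain ⟨E, hUE, hE, hdim⟩ := exists_max a hp hp1 (LinearMap.range (aeval a p)) (by
    rintro _ ⟨x, rfl⟩
    refine ⟨a x, ?_⟩
    have := aeval_comm a p X x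
    rwa [aeval_X] at this) hUt (fun x => ⟨x, rfl⟩)
  obtain ⟨s, A1, A2, Ps, P, P', h1, h2, h3, h4, h5, -⟩ := block_of A hp hp1 E
    (fun x hx => by rw [← ha]; exact hE x hx)
    (fun x => by rw [hap]; exact hUE ⟨x, rfl⟩) hdim
  exact ⟨s, A1, A2, Ps, P, P', by omega, h1, h2, h3, h4, h5⟩

end Cfsg.Agent.H642.TL
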